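import Mathlib

/-!
# Theorem L (S2464), (S): two endomorphisms `A`, `B` of spaces of the same dimension with isomorphic restrictions to
the ranges of `A - a`, `B - a` are similar (helper950)
-/

set_option autoImplicit false
set_option linter.unusedSectionVars false

namespace Cfsg.Agent.H950.TL

open Module

section

variable {F V W : Type*} [Field F] [AddCommGroup V] [Module F V] [AddCommGroup W] [Module F W]

theorem exists_part (R K : Submodule F V) :
    ∃ C : Submodule F V, C ≤ K ∧ Disjoint (R ⊓ K) C ∧ (R ⊓ K) ⊔ C = K := by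
  obtain ⟨C0, hC0⟩ := (R ⊓ K).exists_isCompl
  refine ⟨C0 ⊓ K, inf_le_right, hC0.disjoint.mono_right inf_le_left, ?_⟩
  rw [← sup_inf_assoc_of_le C0 inf_le_right, hC0.sup_eq_top, top_inf_eq]

variable [FiniteDimensional F V] [FiniteDimensional F W]

theorem le_aux {D : End F V} {D' : End F W} (e : ↥(LinearMap.range D) ≃ₗ[F] ↥(LinearMap.range D'))
    (he : ∀ r : ↥(LinearMap.range D), D' (e r) = e ⟨D r, LinearMap.mem_range_self D _⟩) :
    finrank F ↥(LinearMap.range D ⊓ LinearMap.ker D) ≤ finrank F ↥(LinearMap.range D' ⊓ LinearMap.ker D') := by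
  let g : ↥(LinearMap.range D ⊓ LinearMap.ker D) →ₗ[F] ↥(LinearMap.range D' ⊓ LinearMap.ker D') :=
    LinearMap.codRestrict _ ((LinearMap.range D').subtype ∘ₗ e.toLinearMap ∘ₗ Submodule.inclusion inf_le_left) (by
      intro x
      refine ⟨(e _).2, ?_⟩
      rw [SetLike.mem_coe, LinearMap.mem_ker]
      show D' (e ⟨x, x.2.1⟩) = 0
      rw [he]
      have h0 : D (x : V) = 0 := x.2.2
      have h1 : (⟨D (x : V), LinearMap.mem_range_self D _⟩ : ↥(LinearMap.range D)) = 0 := Subtype.ext h0
      show ((e ⟨D (x : V), LinearMap.mem_range_self D _⟩ : ↥(LinearMap.range D')) : W) = 0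
      rw [h1, map_zero]
      rfl)
  refine LinearMap.finrank_le_finrank_of_injective (f := g) ?_
  intro x y hxy
  have h1 : ((g x : ↥(LinearMap.range D' ⊓ LinearMap.ker D')) : W) = g y := by rw [hxy]
  have h2 : (e ⟨x, x.2.1⟩ : ↥(LinearMap.range D')) = e ⟨y, y.2.1⟩ := Subtype.ext h1
  have h3 := congrArg Subtype.val (e.injective h2)
  exact Subtype.ext h3

theorem similar_aux {D : End F V} {D' : End F W} (hd : finrank F V = finrank F W)
    (e : ↥(LinearMap.range D) ≃ₗ[F] ↥(LinearMap.range D'))
    (he : ∀ r : ↥(LinearMap.range D), D' (e r) = e ⟨D r, LinearMap.mem_range_self D _⟩) :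
    ∃ E : V ≃ₗ[F] W, ∀ v, E (D v) = D' (E v) := by
  classical
  -- the dimensions
  have he' : ∀ r : ↥(LinearMap.range D'), D (e.symm r) = e.symm ⟨D' r, LinearMap.mem_range_self D' _⟩ := by
    intro r
    obtain ⟨s, rfl⟩ := e.surjective r
    rw [e.symm_apply_apply]
    have h1 : (⟨D' (e s), LinearMap.mem_range_self D' _⟩ : ↥(LinearMap.range D')) =
        e ⟨D s, LinearMap.mem_range_self D _⟩ := Subtype.ext (he s)
    rw [h1, e.symm_apply_apply]
  have h1 := le_antisymm (le_aux e he) (le_aux e.symm he')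
  have h2 : finrank F ↥(LinearMap.range D) = finrank F ↥(LinearMap.range D') := e.finrank_eq
  have h3 := LinearMap.finrank_range_add_finrank_ker D
  have h4 := LinearMap.finrank_range_add_finrank_ker D'
  have h5 : finrank F ↥(LinearMap.ker D) = finrank F ↥(LinearMap.ker D') := by omega
  obtain ⟨C, hCK, hCd, hCs⟩ := exists_part (LinearMap.range D) (LinearMap.ker D)
  obtain ⟨C', hCK', hCd', hCs'⟩ := exists_part (LinearMap.range D') (LinearMap.ker D')
  have h6 := Submodule.finrank_sup_add_finrank_inf_eq (LinearMap.range D ⊓ LinearMap.ker D) C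
  have h7 := Submodule.finrank_sup_add_finrank_inf_eq (LinearMap.range D' ⊓ LinearMap.ker D') C'
  rw [hCd.eq_bot, finrank_bot, hCs] at h6
  rw [hCd'.eq_bot, finrank_bot, hCs'] at h7
  have h8 : finrank F ↥C = finrank F ↥C' := by omega
  let φ : ↥C ≃ₗ[F] ↥C' := LinearEquiv.ofFinrankEq _ _ h8
  -- a complement of the range containing `C`
  have hRC : Disjoint C (LinearMap.range D) := by
    rw [disjoint_iff, eq_bot_iff]
    intro x hx
    exact (disjoint_iff.1 hCd).le ⟨⟨hx.2, hCK hx.1⟩, hx.1⟩
  obtain ⟨Q, hCQ, hQR⟩ := hRC.exists_isCompl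
  -- the extension of `φ`
  obtain ⟨k, hk⟩ := LinearMap.exists_extend ((Submodule.inclusion hCK') ∘ₗ φ.toLinearMap)
  have hk' : ∀ c : ↥C, ((k (c : V) : ↥(LinearMap.ker D')) : W) = φ c := by
    intro c
    have := LinearMap.congr_fun hk c
    rw [LinearMap.comp_apply, Submodule.subtype_apply] at this
    rw [this]
    rfl
  -- the section
  obtain ⟨s, hs⟩ := LinearMap.exists_rightInverse_of_surjective D'.rangeRestrict (LinearMap.range_rangeRestrict D')
  have hs' : ∀ w : ↥(LinearMap.range D'), D' (s w) = w := by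
    intro w
    have := congrArg Subtype.val (LinearMap.congr_fun hs w)
    simpa using this
  let E0 : V →ₗ[F] W := s ∘ₗ e.toLinearMap ∘ₗ D.rangeRestrict + (LinearMap.ker D').subtype ∘ₗ k
  have hE0 : ∀ v, E0 v = s (e (D.rangeRestrict v)) + (k v : W) := fun v => rfl
  let E : V →ₗ[F] W := LinearMap.ofIsCompl hQR (E0.domRestrict Q) ((LinearMap.range D').subtype ∘ₗ e.toLinearMap)
  have hEQ : ∀ q : ↥Q, E (q : V) = E0 q := fun q => LinearMap.ofIsCompl_apply_left hQR q
  have hER : ∀ r : ↥(LinearMap.range D), E (r : V) = e r := fun r => LinearMap.ofIsCompl_apply_right hQR r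
  -- the relation
  have hrel : ∀ v, D' (E v) = e (D.rangeRestrict v) := by
    intro v
    obtain ⟨q, r, hq, hr, rfl⟩ := Submodule.codisjoint_iff_exists_add_eq.1 hQR.codisjoint v
    have a1 : D' (E q) = e (D.rangeRestrict q) := by
      rw [hEQ ⟨q, hq⟩, hE0, map_add, hs']
      have : D' (k q : W) = 0 := (k q).2
      rw [this, add_zero]
    have a2 : D' (E r) = e (D.rangeRestrict r) := by
      rw [hER ⟨r, hr⟩, he]
      rfl
    rw [map_add, map_add, a1, a2, map_add, map_add]
    rfl
  have hinj : Function.Injective E := by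
    rw [injective_iff_map_eq_zero]
    intro v hv
    have b1 : e (D.rangeRestrict v) = 0 := Subtype.ext (by rw [← hrel, hv, map_zero]; rfl)
    have b2 : D v = 0 := by
      have := (map_eq_zero_iff e e.injective).1 b1
      exact congrArg Subtype.val this
    have b3 : v ∈ (LinearMap.range D ⊓ LinearMap.ker D) ⊔ C := by
      rw [hCs]
      exact b2
    obtain ⟨r, hr, c, hc, rfl⟩ := Submodule.mem_sup.1 b3
    have b4 : E c = φ ⟨c, hc⟩ := by
      rw [hEQ ⟨c, hCQ hc⟩, hE0]
      have : D.rangeRestrict c = 0 := Subtype.ext (hCK hc)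
      rw [this, map_zero, map_zero, zero_add, hk' ⟨c, hc⟩]
    rw [map_add, hER ⟨r, hr.1⟩, b4] at hv
    have b5 : ((e ⟨r, hr.1⟩ : ↥(LinearMap.range D')) : W) ∈ LinearMap.range D' ⊓ LinearMap.ker D' := by
      refine ⟨(e _).2, ?_⟩
      rw [SetLike.mem_coe, LinearMap.mem_ker, he]
      have h0 : (⟨D r, LinearMap.mem_range_self D _⟩ : ↥(LinearMap.range D)) = 0 := Subtype.ext hr.2
      rw [h0, map_zero]
      rfl
    have b6 : ((e ⟨r, hr.1⟩ : ↥(LinearMap.range D')) : W) ∈ C' := by
      rw [eq_neg_of_add_eq_zero_left hv]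
      exact C'.neg_mem (φ ⟨c, hc⟩).2
    have b7 : ((e ⟨r, hr.1⟩ : ↥(LinearMap.range D')) : W) = 0 := by
      have := (disjoint_iff.1 hCd').le ⟨b5, b6⟩
      exact (Submodule.mem_bot F).1 this
    have b8 : r = 0 := by
      have := (map_eq_zero_iff e e.injective).1 (Subtype.ext b7)
      exact congrArg Subtype.val this
    rw [b7, zero_add] at hv
    have b9 : c = 0 := by
      have := (map_eq_zero_iff φ φ.injective).1 (Subtype.ext hv)
      exact congrArg Subtype.val this
    rw [b8, b9, add_zero]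
  refine ⟨LinearEquiv.ofInjectiveOfFinrankEq E hinj hd, ?_⟩
  intro v
  show E (D v) = D' (E v)
  rw [hrel, hER ⟨D v, LinearMap.mem_range_self D v⟩]
  rfl

/-- **the similarity lemma (S)** -/
theorem similar_of_range (A : Module.End F V) (B : Module.End F W) (a : F) (hd : finrank F V = finrank F W)
    (e : ↥(LinearMap.range (A - algebraMap F (Module.End F V) a)) ≃ₗ[F]
      ↥(LinearMap.range (B - algebraMap F (Module.End F W) a)))
    (he : ∀ v (hv : v ∈ LinearMap.range (A - algebraMap F (Module.End F V) a))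
      (hAv : A v ∈ LinearMap.range (A - algebraMap F (Module.End F V) a)), (e ⟨A v, hAv⟩ : W) = B (e ⟨v, hv⟩)) :
    ∃ E : V ≃ₗ[F] W, ∀ v, E (A v) = B (E v) := by
  have hA : ∀ v, (A - algebraMap F (Module.End F V) a) v = A v - a • v := fun v => by
    rw [LinearMap.sub_apply, Module.algebraMap_end_apply]
  have hB : ∀ v, (B - algebraMap F (Module.End F W) a) v = B v - a • v := fun v => by
    rw [LinearMap.sub_apply, Module.algebraMap_end_apply]
  obtain ⟨E, hE⟩ := similar_aux hd e (by
    intro r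
    have h1 : (A - algebraMap F (Module.End F V) a) (r : V) ∈
        LinearMap.range (A - algebraMap F (Module.End F V) a) := LinearMap.mem_range_self _ _
    have h2 : A (r : V) ∈ LinearMap.range (A - algebraMap F (Module.End F V) a) := by
      have : A (r : V) = (A - algebraMap F (Module.End F V) a) (r : V) + a • (r : V) := by rw [hA, sub_add_cancel]
      rw [this]
      exact Submodule.add_mem _ h1 (Submodule.smul_mem _ _ r.2)
    have h3 : (⟨(A - algebraMap F (Module.End F V) a) (r : V), h1⟩ :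
        ↥(LinearMap.range (A - algebraMap F (Module.End F V) a))) = ⟨A r, h2⟩ - a • r := Subtype.ext (hA _)
    rw [hB, h3, map_sub, map_smul, Submodule.coe_sub, Submodule.coe_smul, he r r.2 h2])
  refine ⟨E, fun v => ?_⟩
  have h := hE v
  rw [hA, hB, map_sub, map_smul] at h
  exact sub_left_inj.1 h

end

end Cfsg.Agent.H950.TL
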